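import Groth.Agent.Lib.ProjTildeExact.PolyReg
import Groth.Agent.Lib.ProjCoh.Mul
import Groth.Agent.Lib.Graded.Reg

/-!
# Global sections `M_e → Γ(M(e)~)` on projective space
-/

universe u

open CategoryTheory CategoryTheory.Limits AlgebraicGeometry TopologicalSpace Opposite MvPolynomial DirectSum

noncomputable section

namespace Groth.Agent.Lib.GrSheafReg.Global

open Groth.Agent.Lib Groth.Agent.Lib.ProjCoh.Coherent Groth.Agent.Lib.ProjCoh.Sections
  Groth.Agent.Lib.ProjTildeExact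

variable {k : Type u} [Field k] {r : ℕ}

/-- A global section of `A(a)~`, `a ≥ 0`, is a form. -/
theorem exists_form {a : ℕ} (g : Lau r k) (hg : ProjCoh.Mul.Glob (a : ℤ) g) :
    ∃ F : S r k, F ∈ CohB1.polyGrading r k a ∧ toL F = g := by
  classical
  let N : (Fin (r + 1) →₀ ℤ) → (Fin (r + 1) →₀ ℕ) := fun e => e.mapRange Int.toNat rfl
  have hpos : ∀ e ∈ g.coeff.support, castE (N e) = e ∧ ∑ l, e l = a := fun e he => by
    rw [Finsupp.mem_support_iff] at he
    have hsum := (hg e he ⟨0⟩).1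
    have hnn : ∀ l, 0 ≤ e l := fun l => not_lt.1 fun hlt => by
      by_cases hl : ∃ l', l' ≠ l
      · obtain ⟨l', hl'⟩ := hl
        obtain ⟨_, h⟩ := (hg e he ⟨l'⟩).2 l hlt
        exact hl' h
      · push Not at hl
        rw [Finset.sum_eq_single l (fun b _ hb => absurd (hl b) hb) (by simp)] at hsum
        omega
    exact ⟨Finsupp.ext fun l => by simpa [castE, N] using hnn l, hsum⟩
  refine ⟨∑ e ∈ g.coeff.support, monomial (N e) (g.coeff e), Submodule.sum_mem _ fun e he => ?_, ?_⟩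
  · refine (MvPolynomial.mem_homogeneousSubmodule _ _).2 (isHomogeneous_monomial _ ?_)
    obtain ⟨h1, h2⟩ := hpos e he
    have : ((N e).degree : ℤ) = a := by rw [← sum_castE, h1, h2]
    exact_mod_cast this
  · rw [map_sum]
    refine (Finset.sum_congr rfl fun e he => ?_).trans (AddMonoidAlgebra.sum_coeff_single g)
    rw [toL_monomial, (hpos e he).1]

/-- Global sections of `A(a)~`, `a ≥ 0`, are the forms of degree `a`. -/
theorem exists_val_eq {a : ℕ} (σ : Sect r k (a : ℤ) ⊤) :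
    ∃ F : S r k, F ∈ CohB1.polyGrading r k a ∧
      ∀ x : (⊤ : (CohB1.ProjSpace r k).Opens), ProjTilde.Frac.val σ x = LocalizedModule.mk F 1 := by
  let j₀ : ULift.{u} (Fin (r + 1)) := ⟨0⟩
  let σr : ∀ {q : ℕ} (i : Fin (q + 1) → ULift.{u} (Fin (r + 1))),
      Sect r k (a : ℤ) (Cech.Complex.inter (cover r k) i) := fun i =>
    Cech.Complex.res (PS r k (a : ℤ)) le_top σ
  have hco : ∀ j, coef (ProjCoh.Mul.one1 j) (σr (ProjCoh.Mul.one1 j)) =
      coef (ProjCoh.Mul.one1 j₀) (σr (ProjCoh.Mul.one1 j₀)) := fun j => by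
    let p : Fin 2 → ULift.{u} (Fin (r + 1)) := ![j, j₀]
    have h : Cech.Complex.inter (cover r k) p ≤ Cech.Complex.inter (cover r k) (ProjCoh.Mul.one1 j) :=
      Cech.Complex.inter_mono _ _ _ fun _ => ⟨0, rfl⟩
    have h' : Cech.Complex.inter (cover r k) p ≤ Cech.Complex.inter (cover r k) (ProjCoh.Mul.one1 j₀) :=
      Cech.Complex.inter_mono _ _ _ fun _ => ⟨1, rfl⟩
    rw [← coef_res p _ h (σr (ProjCoh.Mul.one1 j)), ← coef_res p _ h' (σr (ProjCoh.Mul.one1 j₀))]
    exact congrArg (coef p) ((Cech.Complex.res_res (PS r k (a : ℤ)) h le_top σ).trans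
      (Cech.Complex.res_res (PS r k (a : ℤ)) h' le_top σ).symm)
  let g := coef (ProjCoh.Mul.one1 j₀) (σr (ProjCoh.Mul.one1 j₀))
  have hg : ProjCoh.Mul.Glob (a : ℤ) g := fun e he j => by
    have he' : (coef (ProjCoh.Mul.one1 j) (σr (ProjCoh.Mul.one1 j))).coeff e ≠ 0 := by rwa [hco]
    exact coef_support (ProjCoh.Mul.one1 j) _ he'
  obtain ⟨F, hF, hFg⟩ := exists_form g hg
  refine ⟨F, hF, fun x => ?_⟩
  obtain ⟨j, hj⟩ := ProjCoh.Mul.exists_mem_inter x.1
  let τ : Sect r k (a : ℤ) (Cech.Complex.inter (cover r k) (ProjCoh.Mul.one1 j)) :=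
    ProjTilde.Frac.fracSec _ (SetLike.one_mem_graded _)
      (ProjTilde.Frac.Deg.of_mem (m := F) (k := ((0 : ℕ) : ℤ) + (a : ℤ)) hF (Or.inl (by simp)))
      (le_top.trans_eq (Proj.basicOpen_one _).symm)
  have hτ : σr (ProjCoh.Mul.one1 j) = τ := by
    refine coef_injective (ProjCoh.Mul.one1 j) ((hco j).trans ?_)
    rw [coef_eq (ProjCoh.Mul.one1 j) (σ := τ) (w := 0) (m := F)
      ⟨ProjTilde.Frac.Deg.of_mem hF (Or.inl (by simp)),
      le_top.trans_eq (by rw [show mono k (0 : Fin (r + 1) →₀ ℕ) = 1 by simp [mono]]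
                          exact (Proj.basicOpen_one _).symm),
      fun y hy => by
        refine (ProjTilde.Frac.val_fracSec _ _ _ _ y).trans ?_
        congr 1⟩]
    rw [laur, map_zero, neg_zero, zmono_zero, mul_one, hFg]
  change ProjTilde.Frac.val (σr (ProjCoh.Mul.one1 j)) ⟨x.1, hj⟩ = _
  rw [hτ]
  exact (ProjTilde.Frac.val_fracSec _ _ _ _ _).trans rfl

section Free

variable {q : ℕ} {deg : Fin q → ℤ}

/-- Global sections of a free module twisted beyond its generators. -/
theorem exists_globalOf_free {e : ℕ} (hdeg : ∀ b, deg b ≤ e)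
    (σ : GrTilde.sect (CohB1.polyGrading r k) (PolyReg.freeGr k r deg) (e : ℤ)
      (op (⊤ : Opens (ProjectiveSpectrum.top (CohB1.polyGrading r k))))) :
    ∃ v : PolyReg.freeGr k r deg e, GrTilde.globalOf (CohB1.polyGrading r k) (PolyReg.freeGr k r deg) v = σ := by
  have hc : ∀ b, Shift (PolyReg.freeGr k r deg) (CohB1.polyGrading r k)
      (LinearMap.proj b : (Fin q → S r k) →ₗ[S r k] S r k) (-deg b) (((e : ℤ) - deg b).toNat : ℤ) :=
    fun b i v hv _ _ => (PolyReg.mem_std_cases (PolyReg.mem_freeGr.1 hv b)).imp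
      (fun ⟨i', h, hm⟩ => ⟨i', by omega, hm⟩) id
  have key : ∀ b, ∃ F : S r k, F ∈ CohB1.polyGrading r k ((e : ℤ) - deg b).toNat ∧
      ∀ x : (⊤ : (CohB1.ProjSpace r k).Opens),
        locMap (LinearMap.proj b : (Fin q → S r k) →ₗ[S r k] S r k) x.1 (ProjTilde.Frac.val σ x) =
          LocalizedModule.mk F 1 := fun b => by
    obtain ⟨F, hF, hFx⟩ := exists_val_eq
      ((tildeMap (LinearMap.proj b : (Fin q → S r k) →ₗ[S r k] S r k) (hc b)
        (by have := hdeg b; omega)).app ⊤ σ)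
    exact ⟨F, hF, fun x => hFx x⟩
  choose F hF hFx using key
  refine ⟨⟨F, PolyReg.mem_freeGr.2 fun b => ?_⟩, ?_⟩
  · have := PolyReg.mem_std_natCast.2 (hF b)
    rwa [Int.toNat_of_nonneg (by have := hdeg b; omega)] at this
  refine Subtype.ext (funext fun x => Subtype.ext ?_)
  let z : GrTilde.LocMod (CohB1.polyGrading r k) (M := Fin q → S r k) x.1 := ProjTilde.Frac.val σ x
  refine Eq.trans ?_ (PolyReg.sum_proj_single_apply x.1 z)
  refine Eq.trans ?_ (Finset.sum_congr rfl fun b _ =>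
    congrArg (locMap (LinearMap.single (S r k) (fun _ : Fin q => S r k) b) x.1) (hFx b x).symm)
  refine Eq.trans ?_ (Finset.sum_congr rfl fun b _ => (locMap_mk _ x.1 (F b) 1).symm)
  change LocalizedModule.mk F 1 = _
  conv_lhs => rw [← Finset.univ_sum_single F]
  exact map_sum (AddMonoidHom.mk' (fun a : Fin q → S r k =>
    (LocalizedModule.mk a 1 : GrTilde.LocMod (CohB1.polyGrading r k) (M := Fin q → S r k) x.1))
    fun a b => by rw [LocalizedModule.mk_add_mk, mul_one, one_smul, one_smul]) _ _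

end Free

section Kernel

variable {M : Type u} [AddCommGroup M] [Module k M] [Module (S r k) M] {ℳ : ℕ → Submodule k M}
  [SetLike.GradedSMul (CohB1.polyGrading r k) ℳ]

/-- A section `m / 1` which vanishes comes from torsion. -/
theorem mem_gam_of_globalOf_eq_zero {e : ℕ} (m : ℳ e)
    (hom : ∀ u : S r k, u • (m : M) = 0 → ∀ j : ℕ,
      (decompose (CohB1.polyGrading r k) u j : S r k) • (m : M) = 0)
    (h : GrTilde.globalOf (CohB1.polyGrading r k) ℳ m = 0) :
    (m : M) ∈ GrLC.gam (GrSyz.irrel (GrSyz.stdGr k (Fin (r + 1)))).toIdeal M := by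
  have hkill : ∀ l : Fin (r + 1), ∃ N : ℕ, (X l : S r k) ^ N • (m : M) = 0 := fun l =>
    ProjTilde.Frac.exists_pow_smul_eq_zero Nat.one_pos (ProjSpace.Charts.X_mem_one l) fun x => by
      classical
      have h1 : (LocalizedModule.mk (m : M) (1 : x.1.asHomogeneousIdeal.toIdeal.primeCompl) :
          GrTilde.LocMod (CohB1.polyGrading r k) (M := M) x.1) = 0 :=
        congrArg (fun σ : GrTilde.sect (CohB1.polyGrading r k) ℳ (e : ℤ)
          (op (⊤ : Opens (ProjectiveSpectrum.top (CohB1.polyGrading r k)))) =>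
          ((σ.1 ⟨x.1, trivial⟩ : GrTilde.tildeAt (CohB1.polyGrading r k) ℳ (e : ℤ) x.1) :
            GrTilde.LocMod (CohB1.polyGrading r k) (M := M) x.1)) h
      rw [← LocalizedModule.zero_mk 1, LocalizedModule.mk_eq] at h1
      obtain ⟨u, hu⟩ := h1
      simp only [one_smul, smul_zero, Submonoid.smul_def] at hu
      obtain ⟨j, hj⟩ : ∃ j, (decompose (CohB1.polyGrading r k) (u : S r k) j : S r k) ∉ x.1.asHomogeneousIdeal := by
        by_contra h'
        push Not at h'
        apply u.2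
        rw [← sum_support_decompose (CohB1.polyGrading r k) (u : S r k)]
        exact Ideal.sum_mem _ fun i _ => h' i
      exact ⟨j, _, SetLike.coe_mem _, hj, hom _ hu j⟩
  choose N hN using hkill
  let A := Ideal.torsionOf (S r k) M (m : M)
  have hle : (GrSyz.irrel (GrSyz.stdGr k (Fin (r + 1)))).toIdeal ≤ A.radical := by
    rw [Graded.Poly.irrel_eq_vars, Ideal.span_le]
    rintro _ ⟨l, -, rfl⟩
    exact ⟨N l, (Ideal.mem_torsionOf_iff _ _).2 (hN l)⟩
  obtain ⟨L, hL⟩ := Ideal.exists_pow_le_of_le_radical_of_fg hle (IsNoetherian.noetherian _)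
  exact ⟨L, fun s hs => (Ideal.mem_torsionOf_iff _ _).1 (hL hs)⟩

end Kernel

end Groth.Agent.Lib.GrSheafReg.Global
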