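import Groth.Agent.Lib.GrSheafReg.Pos
import Groth.Agent.Lib.CohBasics.Closure

/-!
# The sheaf sequence of a graded cover `⊕ S(-deg b) → M`
-/

universe u

open CategoryTheory CategoryTheory.Limits AlgebraicGeometry TopologicalSpace Opposite MvPolynomial DirectSum

noncomputable section

namespace Groth.Agent.Lib.GrSheafReg.Cover

open Groth.Agent.Lib Groth.Agent.Lib.ProjCoh.Coherent Groth.Agent.Lib.ProjCoh.Sections
  Groth.Agent.Lib.ProjTildeExact Groth.Agent.Lib.Graded

variable {k : Type u} [Field k] {r : ℕ}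


section Free

variable {q : ℕ} (deg : Fin q → ℤ)

/-- The pieces of a free module, indexed by all integers. -/
def freeK (g : ℤ) : Submodule k (Fin q → S r k) := Submodule.pi Set.univ fun b => (GrSyz.stdGr k (Fin (r + 1))) (g - deg b)

theorem mem_freeK {g : ℤ} {v : Fin q → S r k} : v ∈ freeK deg g ↔ ∀ b, v b ∈ (GrSyz.stdGr k (Fin (r + 1))) (g - deg b) := by
  simp [freeK]

theorem mem_freeMod_iff {g : ℤ} {v : Fin q → S r k} :
    v ∈ freeK deg g ↔ (v : (FreeMod.freeMod (GrSyz.stdGr k (Fin (r + 1))) deg).carrier) ∈ (FreeMod.freeMod (GrSyz.stdGr k (Fin (r + 1))) deg).gr g :=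
  (mem_freeK deg).trans (FreeMod.mem_freeMod _ deg).symm

/-- The grading of a free module. -/
@[instance_reducible]
def freeDec : DirectSum.Decomposition (freeK (k := k) (r := r) deg) :=
  Basic.decompositionOfProj _ (FreeMod.freeProj (GrSyz.stdGr k (Fin (r + 1))) deg)
    (fun _ _ hv => funext fun b => Basic.proj_of_mem (GrSyz.stdGr k (Fin (r + 1))) ((mem_freeK deg).1 hv b))
    (fun _ _ hne _ hv => funext fun b =>
      Basic.proj_of_mem_ne (GrSyz.stdGr k (Fin (r + 1))) ((mem_freeK deg).1 hv b) (by simpa using hne))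
    (fun v => by
      classical
      rw [← Finset.univ_sum_single v]
      refine sum_mem fun b _ => ?_
      induction v b using Basic.induction_hom (GrSyz.stdGr k (Fin (r + 1))) with
      | zero => rw [Pi.single_zero]; exact zero_mem _
      | hom e p hp =>
        refine ⟨DirectSum.of _ (e + deg b) ⟨Pi.single b p, (mem_freeK deg).2
          ((FreeMod.mem_freeGr (GrSyz.stdGr k (Fin (r + 1))) deg).1 (FreeMod.single_mem (GrSyz.stdGr k (Fin (r + 1))) deg hp))⟩, ?_⟩
        rw [DirectSum.coeAddMonoidHom_of]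
      | add a c ha hc => rw [Pi.single_add]; exact add_mem ha hc)

instance freeKGSMul : SetLike.GradedSMul (GrSyz.stdGr k (Fin (r + 1))) (freeK (k := k) (r := r) deg) where
  smul_mem {i j p v} hp hv := (mem_freeK deg).2 fun b => by
    have := SetLike.mul_mem_graded hp ((mem_freeK deg).1 hv b)
    rwa [show i + (j - deg b) = i + j - deg b by ring] at this

instance freeKGSMulNat : SetLike.GradedSMul (CohB1.polyGrading r k) (fun n : ℕ => freeK (k := k) (r := r) deg (n : ℤ)) :=
  PolyReg.gradedSMul_free deg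

end Free

variable {M : Type u} [AddCommGroup M] [Module k M] [Module (S r k) M] {ℳ : ℤ → Submodule k M}
  [DirectSum.Decomposition ℳ] [SetLike.GradedSMul (GrSyz.stdGr k (Fin (r + 1))) ℳ] [SetLike.GradedSMul (CohB1.polyGrading r k) (fun n : ℕ => ℳ (n : ℤ))]

theorem coe_decompose_eq {u : S r k} (j : ℕ) :
    (decompose (CohB1.polyGrading r k) u j : S r k) = Basic.proj (GrSyz.stdGr k (Fin (r + 1))) (j : ℤ) u := by
  classical
  rw [Basic.proj_apply]
  conv_rhs => rw [← sum_support_decompose (CohB1.polyGrading r k) u, PolyReg.coe_decompose_sum]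
  rw [Finset.sum_eq_single j]
  · exact (decompose_of_mem_same (GrSyz.stdGr k (Fin (r + 1))) (PolyReg.mem_std_natCast.2 (SetLike.coe_mem _))).symm
  · intro j' _ hne
    exact decompose_of_mem_ne (GrSyz.stdGr k (Fin (r + 1))) (PolyReg.mem_std_natCast.2 (SetLike.coe_mem _)) (by omega)
  · intro he
    rw [DFinsupp.notMem_support_iff.mp he]
    simp

theorem hom_smul {i : ℤ} {a : M} (ha : a ∈ ℳ i) {u : S r k} (hu : u • a = 0) (j : ℕ) :
    (decompose (CohB1.polyGrading r k) u j : S r k) • a = 0 := by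
  have h := Basic.proj_smul_mem (GrSyz.stdGr k (Fin (r + 1))) ℳ (r := u) ha ((j : ℤ) + i)
  rw [hu, map_zero, add_sub_cancel_right] at h
  rw [coe_decompose_eq]
  exact h.symm

variable {q : ℕ} {deg : Fin q → ℤ} (aug : Fin q → M)

/-- The map of a cover. -/
abbrev cov : (Fin q → S r k) →ₗ[S r k] M := Fintype.linearCombination (S r k) aug

variable {aug} (hx : ∀ b, aug b ∈ ℳ (deg b))

include hx in
theorem cov_grHom : GrLC.IsGrHom (FreeMod.freeMod (GrSyz.stdGr k (Fin (r + 1))) deg).gr ℳ (cov (k := k) (r := r) aug) :=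
  FreeMod.isGrHom_linearCombination hx

include hx in
theorem cov_mem {i : ℕ} {v : Fin q → S r k} (hv : v ∈ PolyReg.freeGr k r deg i) :
    cov (k := k) (r := r) aug v ∈ ℳ (i : ℤ) :=
  cov_grHom hx (i : ℤ) v ((mem_freeMod_iff deg).1 hv)

include hx in
theorem exists_preimage {i : ℕ} {a : M} (ha : a ∈ ℳ (i : ℤ))
    (h : a ∈ LinearMap.range (cov (k := k) (r := r) aug)) :
    ∃ v ∈ PolyReg.freeGr k r deg i, cov (k := k) (r := r) aug v = a := by
  letI := freeDec (k := k) (r := r) deg
  obtain ⟨v, hv, hva⟩ := Basic.exists_hom_preimage (ℳ := freeK (k := k) (r := r) deg) (𝒩 := ℳ)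
    (fun g v hv => cov_grHom hx g v ((mem_freeMod_iff deg).1 hv)) ha h
  exact ⟨v, hv, hva⟩

/-- The pieces of the kernel. -/
def kerK (g : ℤ) : Submodule k (LinearMap.ker (cov (k := k) (r := r) aug)) :=
  (freeK deg g).comap ((LinearMap.ker (cov (k := k) (r := r) aug)).subtype.restrictScalars k)

include hx in
/-- The grading of the kernel. -/
@[instance_reducible]
def kerDec : DirectSum.Decomposition (kerK (k := k) (r := r) (deg := deg) (aug := aug)) :=
  letI := freeDec (k := k) (r := r) deg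
  let hP : (LinearMap.ker (cov (k := k) (r := r) aug)).IsHomogeneous (freeK deg) := by
    refine Basic.isHomogeneous_ker (𝒩 := ℳ) ?_
    exact fun g v hv => cov_grHom hx g v ((mem_freeMod_iff deg).1 hv)
  Basic.decompositionOfProj _
    (fun g => ((Basic.proj (freeK deg) g).comp
      (LinearMap.ker (cov (k := k) (r := r) aug)).subtype.toAddMonoidHom).codRestrict _ fun x => hP g x.2)
    (fun g x hx => Subtype.ext (Basic.proj_of_mem (freeK deg) hx))
    (fun g h hne x hx => Subtype.ext (Basic.proj_of_mem_ne (freeK deg) hx hne))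
    (fun x => by
      classical
      have hx' : x = ∑ g ∈ Basic.supp (freeK deg) (x : Fin q → S r k),
          (⟨Basic.proj (freeK deg) g x, hP g x.2⟩ : LinearMap.ker (cov (k := k) (r := r) aug)) :=
        Subtype.ext (by rw [Submodule.coe_sum]; exact (Basic.sum_proj (freeK deg) _).symm)
      rw [hx']
      exact sum_mem fun g _ => ⟨DirectSum.of _ g ⟨⟨Basic.proj (freeK deg) g x, hP g x.2⟩,
        Basic.proj_mem (freeK deg) g (x : Fin q → S r k)⟩, by rw [DirectSum.coeAddMonoidHom_of]⟩)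

instance kerGSMul : SetLike.GradedSMul (GrSyz.stdGr k (Fin (r + 1))) (kerK (k := k) (r := r) (deg := deg) (aug := aug)) where
  smul_mem {i j p v} hp hv := (mem_freeK deg).2 fun b => by
    have := SetLike.mul_mem_graded hp ((mem_freeK deg).1 hv b)
    rwa [show i + (j - deg b) = i + j - deg b by ring] at this

instance kerGSMulNat : SetLike.GradedSMul (CohB1.polyGrading r k)
    (fun n : ℕ => kerK (k := k) (r := r) (deg := deg) (aug := aug) (n : ℤ)) :=
  PolyReg.gradedSMul_sub deg _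

/-- `M(t)~`, from the pieces of non-negative degree. -/
abbrev Q (ℳ : ℤ → Submodule k M) [SetLike.GradedSMul (CohB1.polyGrading r k) (fun n : ℕ => ℳ (n : ℤ))] (t : ℤ) :
    (CohB1.ProjSpace r k).Modules :=
  GrTilde.tilde (CohB1.polyGrading r k) (fun n : ℕ => ℳ (n : ℤ)) t

/-- The free sheaf. -/
abbrev FT (deg : Fin q → ℤ) (t : ℤ) : (CohB1.ProjSpace r k).Modules :=
  GrTilde.tilde (CohB1.polyGrading r k) (PolyReg.freeGr k r deg) t

theorem subsingleton_transfer {N : Type u} [AddCommGroup N] [Module k N] [Module (S r k) N]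
    {𝒩 𝒩' : ℕ → Submodule k N} [SetLike.GradedSMul (CohB1.polyGrading r k) 𝒩]
    [SetLike.GradedSMul (CohB1.polyGrading r k) 𝒩'] (h : 𝒩 = 𝒩') {t : ℤ} {i : ℕ}
    (e : CohB1.tensorMod (GrTilde.tilde (CohB1.polyGrading r k) 𝒩 0) (tw r k t) ≅
      GrTilde.tilde (CohB1.polyGrading r k) 𝒩 t)
    (hs : Subsingleton (Coh.HH (CohB1.ProjSpace r k)
      (CohB1.tensorMod (GrTilde.tilde (CohB1.polyGrading r k) 𝒩' 0) (tw r k t)) i)) :
    Subsingleton (Coh.HH (CohB1.ProjSpace r k) (GrTilde.tilde (CohB1.polyGrading r k) 𝒩' t) i) := by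
  subst h
  exact ProjKoszul.Chase.subsingleton_of_iso (X := CohB1.ProjSpace r k) k e hs

theorem subsingleton_FT (deg : Fin q → ℤ) {t : ℤ} {i : ℕ} (hi : 1 ≤ i)
    (h : ∀ b, -(i : ℤ) ≤ -deg b + t) : Subsingleton (Coh.HH (CohB1.ProjSpace r k) (FT (k := k) (r := r) deg t) i) :=
  letI := freeDec (k := k) (r := r) deg
  subsingleton_transfer (𝒩' := PolyReg.freeGr k r deg) rfl
    (Pos.qIso (k := k) (r := r) (freeK (k := k) (r := r) deg) t) (PolyReg.subsingleton_free deg hi h)

variable [IsScalarTower k (S r k) M]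

include hx in
theorem shift_cov (t : ℤ) : Shift (PolyReg.freeGr k r deg) (fun n : ℕ => ℳ (n : ℤ))
    (cov (k := k) (r := r) aug) 0 t := fun i v hv _ _ => Or.inl ⟨i, by simp, cov_mem hx hv⟩

theorem shift_ker (t : ℤ) :
    Shift (fun n : ℕ => kerK (k := k) (r := r) (deg := deg) (aug := aug) (n : ℤ)) (PolyReg.freeGr k r deg)
      (LinearMap.ker (cov (k := k) (r := r) aug)).subtype 0 t := fun i _ hv _ _ => Or.inl ⟨i, by simp, hv⟩

/-- The inclusion of the kernel sheaf. -/
def iMap (t : ℤ) : Q (kerK (k := k) (r := r) (deg := deg) (aug := aug)) t ⟶ FT (k := k) (r := r) deg t :=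
  tildeMap _ (shift_ker t) (add_zero t).symm

/-- The sheaf map of a cover. -/
def gMap (t : ℤ) : FT (k := k) (r := r) deg t ⟶ Q ℳ t :=
  tildeMap _ (shift_cov hx t) (add_zero t).symm

/-- The cover is surjective up to torsion. -/
def Sat (ℳ : ℤ → Submodule k M) (aug : Fin q → M) : Prop :=
  ∀ (p : ProjectiveSpectrum (CohB1.polyGrading r k)) (i : ℕ) (a : M), a ∈ ℳ (i : ℤ) →
    ∃ (e : ℕ) (v : S r k), v ∈ (CohB1.polyGrading r k) e ∧ v ∉ p.asHomogeneousIdeal ∧
      v • a ∈ LinearMap.range (cov (k := k) (r := r) aug)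

theorem iMap_gMap (t : ℤ) : iMap (k := k) (r := r) (deg := deg) (aug := aug) t ≫ gMap (k := k) (r := r) hx t = 0 := by
  refine (tildeMap_comp _ (shift_ker t) (add_zero t).symm (cov (k := k) (r := r) aug) (shift_cov hx t)
    (add_zero t).symm (e := 0) (fun i v _ _ _ => Or.inr v.2) (add_zero t).symm).trans ?_
  exact tildeMap_zero _ _ _ (LinearMap.ext fun v => v.2)

/-- The sequence of a cover. -/
abbrev ses (t : ℤ) : ShortComplex (CohB1.ProjSpace r k).Modules :=
  ShortComplex.mk (iMap (k := k) (r := r) (deg := deg) (aug := aug) t) (gMap hx t) (iMap_gMap hx t)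

theorem shortExact_ses (hsat : Sat (k := k) (r := r) ℳ aug) (t : ℤ) : (ses (k := k) (r := r) hx t).ShortExact := by
  let R := LinearMap.range (cov (k := k) (r := r) aug)
  let ℛ : ℕ → Submodule k R := fun i => (ℳ (i : ℤ)).comap
    ({ toFun := Subtype.val, map_add' := fun _ _ => rfl,
       map_smul' := fun c x => rfl } : R →ₗ[k] M)
  haveI : SetLike.GradedSMul (CohB1.polyGrading r k) ℛ :=
    ⟨fun {i j p v} hp hv => SetLike.GradedSMul.smul_mem (B := fun n : ℕ => ℳ (n : ℤ)) hp hv⟩
  have h := shortExact_tilde (𝒩 := fun n : ℕ => kerK (k := k) (r := r) (deg := deg) (aug := aug) (n : ℤ))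
    (ℳ := PolyReg.freeGr k r deg) (ℒ := ℛ) (LinearMap.ker (cov (k := k) (r := r) aug)).subtype
    (cov (k := k) (r := r) aug).rangeRestrict (n := t) (shift_ker t)
    (fun i v hv _ _ => Or.inl ⟨i, by simp, cov_mem hx hv⟩) Subtype.val_injective
    (LinearMap.ext fun v => Subtype.ext v.2)
    (fun i a ha h => ⟨⟨a, congrArg Subtype.val h⟩, ha, rfl⟩)
    (fun i a ha => by
      obtain ⟨v, hv, hva⟩ := exists_preimage hx ha a.2
      exact ⟨v, hv, Subtype.ext hva⟩)
    (fun i a ha u hu e => Subtype.ext (hom_smul ha (congrArg Subtype.val hu) e))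
  have hincl : Shift ℛ (fun n : ℕ => ℳ (n : ℤ)) R.subtype 0 t := fun i a ha _ _ => Or.inl ⟨i, by simp, ha⟩
  let j : GrTilde.tilde (CohB1.polyGrading r k) ℛ t ⟶ Q ℳ t := tildeMap R.subtype hincl (add_zero t).symm
  haveI : Mono j := mono_tildeMap _ hincl _ Subtype.val_injective
  haveI : Mono (iMap (k := k) (r := r) (deg := deg) (aug := aug) t) :=
    mono_tildeMap _ (shift_ker t) _ Subtype.val_injective
  haveI : Epi (gMap (k := k) (r := r) hx t) := by
    refine (Modules.Stalk.epi_iff_stalk_surjective _).2 fun p z => ?_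
    obtain ⟨U, hpU, σ, rfl⟩ := TopCat.Presheaf.exists_germ_eq (Q ℳ t).presheaf z
    obtain ⟨V, hVU, hpV, τ, hτ⟩ := exists_local_lift (cov (k := k) (r := r) aug) (shift_cov hx t)
      (add_zero t).symm σ p hpU fun i j a u ha _ _ _ hij => by
        obtain ⟨e, v, hv, hvp, hva⟩ := hsat p i a ha
        have hmem : v • a ∈ ℳ ((e + i : ℕ) : ℤ) :=
          SetLike.GradedSMul.smul_mem (B := fun n : ℕ => ℳ (n : ℤ)) hv ha
        obtain ⟨w, hw, hwa⟩ := exists_preimage hx hmem hva
        rcases hij with h | h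
        · exact ⟨e, v, e + i, w, hv, hvp, hw, hwa, Or.inl (by push_cast; omega)⟩
        · exact ⟨e, v, 0, 0, hv, hvp, Submodule.zero_mem _, by rw [map_zero, h, smul_zero], Or.inr rfl⟩
    refine ⟨(FT (k := k) (r := r) deg t).presheaf.germ V p hpV τ, ?_⟩
    refine (TopCat.Presheaf.stalkFunctor_map_germ_apply V p hpV (gMap hx t).mapPresheaf τ).trans ?_
    exact (congrArg ((Q ℳ t).presheaf.germ V p hpV) hτ).trans (TopCat.Presheaf.germ_res_apply _ _ _ _ _)
  let g' : FT (k := k) (r := r) deg t ⟶ GrTilde.tilde (CohB1.polyGrading r k) ℛ t :=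
    tildeMap (cov (k := k) (r := r) aug).rangeRestrict (c := 0)
      (fun i v hv _ _ => Or.inl ⟨i, by simp, cov_mem hx hv⟩) (add_zero t).symm
  have hg : g' ≫ j = gMap hx t :=
    tildeMap_comp _ _ _ R.subtype hincl (add_zero t).symm (e := 0) (shift_cov hx t) (add_zero t).symm
  refine ShortComplex.ShortExact.mk' ?_ inferInstance inferInstance
  let S₁ := ShortComplex.mk (iMap (k := k) (r := r) (deg := deg) (aug := aug) t) g'
    ((cancel_mono j).1 (((Category.assoc _ _ _).trans ((congrArg (iMap t ≫ ·) hg).trans (iMap_gMap hx t))).trans zero_comp.symm))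
  let φ : S₁ ⟶ ses hx t :=
    { τ₁ := 𝟙 _, τ₂ := 𝟙 _, τ₃ := j
      comm₁₂ := by simp [S₁]
      comm₂₃ := by simp [S₁, hg] }
  haveI : Epi φ.τ₁ := inferInstanceAs (Epi (𝟙 _))
  haveI : IsIso φ.τ₂ := inferInstanceAs (IsIso (𝟙 _))
  haveI : Mono φ.τ₃ := inferInstanceAs (Mono j)
  exact (ShortComplex.exact_iff_of_epi_of_isIso_of_mono φ).1 h.exact

include hx in
theorem sat_of_surjective (h : Function.Surjective (cov (k := k) (r := r) aug)) :
    Sat (k := k) (r := r) ℳ aug := fun p i a _ =>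
  ⟨0, 1, SetLike.GradedOne.one_mem, fun h' => p.isPrime.ne_top ((Ideal.eq_top_iff_one _).mpr h'), h _⟩

end Groth.Agent.Lib.GrSheafReg.Cover
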