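import Groth.Agent.Lib.GrSheafReg.Step
import Groth.Agent.Lib.Graded.Reg

/-!
# Regularity of a graded module against regularity of its sheaf
-/

universe u

open CategoryTheory CategoryTheory.Limits AlgebraicGeometry TopologicalSpace Opposite MvPolynomial DirectSum

noncomputable section

namespace Groth.Agent.Lib.GrSheafReg.Main

open Groth.Agent.Lib Groth.Agent.Lib.ProjCoh.Coherent Groth.Agent.Lib.ProjCoh.Sections
  Groth.Agent.Lib.ProjTildeExact Groth.Agent.Lib.Graded Groth.Agent.Lib.GrSheafReg.Cover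
  Groth.Agent.Lib.GrSheafReg.Step

variable {k : Type u} [Field k] {r : ℕ}

section Module

variable {M : Type u} [AddCommGroup M] [Module k M] [Module (S r k) M] [IsScalarTower k (S r k) M]
  [Module.Finite (S r k) M] {ℳ : ℤ → Submodule k M}
  [DirectSum.Decomposition ℳ] [SetLike.GradedSMul (GrSyz.stdGr k (Fin (r + 1))) ℳ]
  [SetLike.GradedSMul (CohB1.polyGrading r k) (fun n : ℕ => ℳ (n : ℤ))]

variable (ℳ) in
theorem exists_cover (d : ℤ) : ∃ (q : ℕ) (deg : Fin q → ℤ) (aug : Fin q → M),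
    (∀ b, deg b ≤ d) ∧ (∀ b, aug b ∈ ℳ (deg b)) ∧
      ∀ g ≤ d, ∀ a ∈ ℳ g, a ∈ LinearMap.range (cov (k := k) (r := r) aug) := by
  classical
  obtain ⟨s, hs, hspan⟩ := (Submodule.fg_span_iff_fg_span_finset_subset (R := S r k)
    (⋃ g ∈ Set.Iic d, (ℳ g : Set M))).1 (IsNoetherian.noetherian _)
  have hmem : ∀ b : s, ∃ g : ℤ, g ≤ d ∧ (b : M) ∈ ℳ g := fun b => by
    obtain ⟨g, hg, hb⟩ := Set.mem_iUnion₂.1 (hs b.2)
    exact ⟨g, hg, hb⟩
  choose dg hdg hdm using hmem
  let e := s.equivFin.symm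
  refine ⟨s.card, fun b => dg (e b), fun b => (e b : M), fun b => hdg _, fun b => hdm _, fun g hg a ha => ?_⟩
  have h1 : a ∈ Submodule.span (S r k) (⋃ g ∈ Set.Iic d, (ℳ g : Set M)) :=
    Submodule.subset_span (Set.mem_iUnion₂.2 ⟨g, hg, ha⟩)
  rw [hspan] at h1
  rw [Fintype.range_linearCombination]
  refine Submodule.span_mono ?_ h1
  intro x hx
  exact ⟨e.symm ⟨x, hx⟩, by simp⟩

variable {q : ℕ} {deg : Fin q → ℤ} {aug : Fin q → M} (hx : ∀ b, aug b ∈ ℳ (deg b))

omit [Module.Finite (S r k) M] in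
/-- The sheaf of the kernel of a cover is regular one step higher. -/
theorem sreg_kerK (hsat : Sat (k := k) (r := r) ℳ aug) {d : ℕ} (hdeg : ∀ b, deg b ≤ d)
    (hreg : SReg (r := r) ℳ (d : ℤ)) (hsurj : Function.Surjective ((gMap (k := k) (r := r) hx (d : ℤ)).app ⊤)) :
    SReg (r := r) (kerK (k := k) (r := r) (deg := deg) (aug := aug)) ((d : ℤ) + 1) := by
  intro i hi
  obtain ⟨p, rfl⟩ : ∃ p, i = p + 1 := ⟨i - 1, by omega⟩
  rw [show (d : ℤ) + 1 - ((p + 1 : ℕ) : ℤ) = (d : ℤ) - p by push_cast; ring]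
  have hS : (ses (k := k) (r := r) hx ((d : ℤ) - p)).ShortExact := shortExact_ses hx hsat _
  have h2 : Subsingleton (Coh.HH (CohB1.ProjSpace r k) (ses (k := k) (r := r) hx ((d : ℤ) - p)).X₂ (p + 1)) :=
    subsingleton_FT deg (by omega) fun b => by have := hdeg b; push_cast; omega
  refine ProjKoszul.Reg2.sub₁ k hS ?_ h2
  rcases Nat.eq_zero_or_pos p with rfl | hp
  · refine ProjKoszul.Reg2.mapK_surjective_of_app _ ?_
    rw [show (d : ℤ) - ((0 : ℕ) : ℤ) = d by simp]
    exact hsurj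
  · exact fun y => ⟨0, (hreg p hp).elim _ _⟩

include hx in
/-- The cover is surjective. -/
theorem surjective_cov {d : ℕ} (hI : Inv (r := r) ℳ d) (hdeg : ∀ b, deg b ≤ d)
    (hgen : ∀ g : ℤ, g ≤ d → ∀ a ∈ ℳ g, a ∈ LinearMap.range (cov (k := k) (r := r) aug))
    (hsat : Sat (k := k) (r := r) ℳ aug)
    (hK : SReg (r := r) (kerK (k := k) (r := r) (deg := deg) (aug := aug)) ((d : ℤ) + 1)) :
    Function.Surjective (cov (k := k) (r := r) aug) := by
  letI := kerDec (k := k) (r := r) hx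
  intro a
  suffices a ∈ LinearMap.range (cov (k := k) (r := r) aug) from this
  induction a using Basic.induction_hom ℳ with
  | zero => exact zero_mem _
  | add a b ha hb => exact add_mem ha hb
  | hom g a ha =>
    rcases le_or_gt g (d : ℤ) with hg | hg
    · exact hgen g hg a ha
    obtain ⟨e, rfl⟩ : ∃ e : ℕ, (e : ℤ) = g := ⟨g.toNat, Int.toNat_of_nonneg (by omega)⟩
    obtain ⟨v, hv⟩ := exists_cov_globalOf hx hsat (e := e) (fun b => le_trans (hdeg b) (by omega))
      (sreg_subsingleton _ hK le_rfl (by omega))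
      (GrTilde.globalOf (CohB1.polyGrading r k) (fun n : ℕ => ℳ (n : ℤ)) (i := e) ⟨a, ha⟩)
    have hsub : a - cov (k := k) (r := r) aug v ∈ ℳ (e : ℤ) := sub_mem ha (cov_mem hx v.2)
    have h0 : GrTilde.globalOf (CohB1.polyGrading r k) (fun n : ℕ => ℳ (n : ℤ)) (i := e)
        ⟨a - cov (k := k) (r := r) aug v, hsub⟩ = 0 := by
      refine Subtype.ext (funext fun x => Subtype.ext ?_)
      change (LocalizedModule.mk (a - cov (k := k) (r := r) aug v) 1 :
        GrTilde.LocMod (CohB1.polyGrading r k) (M := M) x.1) = 0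
      have hv' : (LocalizedModule.mk (cov (k := k) (r := r) aug v) 1 :
          GrTilde.LocMod (CohB1.polyGrading r k) (M := M) x.1) = LocalizedModule.mk a 1 :=
        congrArg (fun σ : GrTilde.sect (CohB1.polyGrading r k) (fun n : ℕ => ℳ (n : ℤ)) (e : ℤ)
          (op (⊤ : Opens (ProjectiveSpectrum.top (CohB1.polyGrading r k)))) => (σ.1 x).1) hv
      rw [LocalizedModule.mk_eq] at hv'
      obtain ⟨c, hc⟩ := hv'
      rw [← LocalizedModule.zero_mk 1, LocalizedModule.mk_eq]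
      exact ⟨c, by simp only [one_smul, smul_zero, smul_sub] at hc ⊢; rw [hc, sub_self]⟩
    have h1 := Global.mem_gam_of_globalOf_eq_zero (ℳ := fun n : ℕ => ℳ (n : ℤ)) (e := e) ⟨_, hsub⟩
      (fun u hu j => hom_smul hsub hu j) h0
    rw [sub_eq_zero.1 (hI.tors e hg _ hsub h1)]
    exact ⟨v, rfl⟩

omit [Module.Finite (S r k) M] in
theorem eq_zero_of_mem_gam_ker (v : LinearMap.ker (cov (k := k) (r := r) aug))
    (hv : v ∈ GrLC.gam (GrSyz.irrel (GrSyz.stdGr k (Fin (r + 1)))).toIdeal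
      (LinearMap.ker (cov (k := k) (r := r) aug))) : v = 0 := by
  obtain ⟨L, hL⟩ := hv
  have hmem : (X 0 : S r k) ^ L ∈ (GrSyz.irrel (GrSyz.stdGr k (Fin (r + 1)))).toIdeal ^ L := by
    refine Ideal.pow_mem_pow ?_ L
    rw [Graded.Poly.irrel_eq_vars]
    exact Ideal.subset_span ⟨0, trivial, rfl⟩
  refine Subtype.ext (funext fun b => ?_)
  have h := congrFun (congrArg Subtype.val (hL _ hmem)) b
  exact (mul_eq_zero.1 h).resolve_left (pow_ne_zero L (X_ne_zero 0))

set_option maxHeartbeats 1000000 in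
include hx in
/-- The kernel of a cover inherits the conclusions, one step higher. -/
theorem inv_kerK {d : ℕ} (hI : Inv (r := r) ℳ d) (hdeg : ∀ b, deg b ≤ d)
    (hK : SReg (r := r) (kerK (k := k) (r := r) (deg := deg) (aug := aug)) ((d : ℤ) + 1)) :
    letI := kerDec (k := k) (r := r) hx
    Inv (r := r) (kerK (k := k) (r := r) (deg := deg) (aug := aug)) (d + 1) := by
  letI := kerDec (k := k) (r := r) hx
  refine ⟨by exact_mod_cast hK, fun e _ m _ hm => eq_zero_of_mem_gam_ker m hm, fun σ => ?_⟩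
  let τ := (iMap (k := k) (r := r) (deg := deg) (aug := aug) ((d + 1 : ℕ) : ℤ)).app ⊤ σ
  obtain ⟨v, hv⟩ := Global.exists_globalOf_free (e := d + 1) (fun b => le_trans (hdeg b) (by omega)) τ
  have hval : ∀ x : (⊤ : Opens (ProjectiveSpectrum.top (CohB1.polyGrading r k))),
      (LocalizedModule.mk (v : Fin q → S r k) 1 :
        GrTilde.LocMod (CohB1.polyGrading r k) (M := Fin q → S r k) x.1) =
      locMap (LinearMap.ker (cov (k := k) (r := r) aug)).subtype x.1 (σ.1 x).1 := fun x =>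
    congrArg (fun ρ : GrTilde.sect (CohB1.polyGrading r k) (PolyReg.freeGr k r deg) ((d + 1 : ℕ) : ℤ)
      (op (⊤ : Opens (ProjectiveSpectrum.top (CohB1.polyGrading r k)))) => (ρ.1 x).1) hv
  have hz : cov (k := k) (r := r) aug v = 0 := by
    refine hI.tors ((d + 1 : ℕ) : ℤ) (by push_cast; omega) _ (cov_mem hx v.2) ?_
    refine Global.mem_gam_of_globalOf_eq_zero (ℳ := fun n : ℕ => ℳ (n : ℤ)) (e := d + 1)
      ⟨_, cov_mem hx v.2⟩ (fun u hu j => hom_smul (cov_mem hx v.2) hu j)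
      (Subtype.ext (funext fun x => Subtype.ext ?_))
    refine ((locMap_mk (cov (k := k) (r := r) aug) x.1 _ 1).symm.trans
      (congrArg _ (hval x))).trans ((locMap_comp_apply _ _ x.1 _).trans ?_)
    rw [show (cov (k := k) (r := r) aug).comp (LinearMap.ker (cov (k := k) (r := r) aug)).subtype = 0 from
      LinearMap.ext fun w => w.2]
    exact locMap_zero_apply _ _
  refine ⟨⟨⟨v, hz⟩, (mem_freeK deg).2 (PolyReg.mem_freeGr.1 v.2)⟩, Subtype.ext (funext fun x => Subtype.ext ?_)⟩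
  refine locMap_injective (LinearMap.ker (cov (k := k) (r := r) aug)).subtype Subtype.val_injective x.1 ?_
  exact (locMap_mk _ x.1 _ _).trans (hval x)

include hx in
theorem ses_cover (hsurj : Function.Surjective (cov (k := k) (r := r) aug)) :
    letI := kerDec (k := k) (r := r) hx
    Horseshoe.SES (StarInj.toMod (GrSyz.stdGr k (Fin (r + 1))) (kerK (k := k) (r := r) (deg := deg) (aug := aug))).gr
      (FreeMod.freeMod (GrSyz.stdGr k (Fin (r + 1))) deg).gr (StarInj.toMod (GrSyz.stdGr k (Fin (r + 1))) ℳ).gr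
      (LinearMap.ker (cov (k := k) (r := r) aug)).subtype (cov (k := k) (r := r) aug) := by
  letI := kerDec (k := k) (r := r) hx
  exact
    { grHom_i := fun g v hv => (mem_freeMod_iff deg).1 ((StarInj.mem_toMod (GrSyz.stdGr k (Fin (r + 1))) (kerK (k := k) (r := r) (deg := deg) (aug := aug))).1 hv)
      grHom_π := fun g v hv => (StarInj.mem_toMod (GrSyz.stdGr k (Fin (r + 1))) ℳ).2 (cov_grHom hx g v hv)
      injective := Subtype.val_injective
      surjective := hsurj
      exact := (Submodule.range_subtype _).symm }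

end Module

/-- Regular sheaf, no high torsion and full sections give regularity. -/
theorem V_of_inv : ∀ (b : ℕ) (M : Type u) [AddCommGroup M] [Module k M] [Module (S r k) M]
    [IsScalarTower k (S r k) M] [Module.Finite (S r k) M] (ℳ : ℤ → Submodule k M)
    [DirectSum.Decomposition ℳ] [SetLike.GradedSMul (GrSyz.stdGr k (Fin (r + 1))) ℳ]
    [SetLike.GradedSMul (CohB1.polyGrading r k) (fun n : ℕ => ℳ (n : ℤ))] (d : ℕ),
    Inv (r := r) ℳ d → ∀ (i : ℕ) (n : ℤ), Nat.card (Fin (r + 1)) < i + b → (d : ℤ) < n + i →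
      Van.V (GrSyz.irrel (GrSyz.stdGr k (Fin (r + 1)))) (StarInj.toMod (GrSyz.stdGr k (Fin (r + 1))) ℳ) i n := by
  intro b
  induction b with
  | zero => intro M _ _ _ _ _ ℳ _ _ _ d _ i n hi _; exact Poly.V_of_card_lt _ n (by omega)
  | succ b ih =>
    intro M _ _ _ _ _ ℳ _ _ _ d hI i n hb hn
    obtain ⟨q, deg, aug, hdeg, hx, hgen⟩ := exists_cover (r := r) ℳ (d : ℤ)
    have hsat := sat_of_inv hx hI hgen
    have hsurj : Function.Surjective ((gMap (k := k) (r := r) hx (d : ℤ)).app ⊤) := fun t => by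
      obtain ⟨m, hm⟩ := hI.surj t
      obtain ⟨v, hv, hvm⟩ := exists_preimage hx (i := d) m.2 (hgen _ le_rfl _ m.2)
      exact ⟨_, (gMap_globalOf hx ⟨v, hv⟩).trans ((congrArg _ (Subtype.ext hvm)).trans hm)⟩
    have hK := sreg_kerK hx hsat hdeg hI.sreg hsurj
    have hIK := inv_kerK hx hI hdeg hK
    letI := kerDec (k := k) (r := r) hx
    haveI : Module.Finite (S r k) (LinearMap.ker (cov (k := k) (r := r) aug)) :=
      Module.Finite.iff_fg.mpr (IsNoetherian.noetherian _)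
    have hc := surjective_cov hx hI hdeg hgen hsat hK
    have hses := ses_cover (k := k) (r := r) (M := M) (ℳ := ℳ) hx hc
    exact Van.V_right hses
      (Reg.V_free_of_le hdeg i n hn)
      (ih (LinearMap.ker (cov (k := k) (r := r) aug)) (kerK (k := k) (r := r) (deg := deg) (aug := aug))
        (d + 1) hIK (i + 1) n (by omega) (by push_cast; omega))

variable {M : Type u} [AddCommGroup M] [Module k M] [Module (S r k) M] [IsScalarTower k (S r k) M]
  [Module.Finite (S r k) M] {ℳ : ℤ → Submodule k M}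
  [DirectSum.Decomposition ℳ] [SetLike.GradedSMul (GrSyz.stdGr k (Fin (r + 1))) ℳ]
  [SetLike.GradedSMul (CohB1.polyGrading r k) (fun n : ℕ => ℳ (n : ℤ))]

theorem VR_of_inv {d : ℕ} (hI : Inv (r := r) ℳ d) :
    Reg.VR (StarInj.toMod (GrSyz.stdGr k (Fin (r + 1))) ℳ) (d : ℤ) := fun i n hn =>
  V_of_inv (Nat.card (Fin (r + 1)) + 1) M ℳ d hI i n (by omega) hn

theorem sreg_of_VR {d : ℤ} (h : Reg.VR (StarInj.toMod (GrSyz.stdGr k (Fin (r + 1))) ℳ) d) :
    SReg (r := r) ℳ d := by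
  obtain ⟨F, -, hF⟩ := Reg.isRegLE_iff.2 h
  exact sreg_of_reg ℳ fun i hi => PolyReg.subsingleton_of_isGenLE F hF hi

set_option maxHeartbeats 1000000 in
/-- Regularity gives all three conclusions. -/
theorem inv_of_VR {d : ℕ} (h : Reg.VR (StarInj.toMod (GrSyz.stdGr k (Fin (r + 1))) ℳ) (d : ℤ)) :
    Inv (r := r) ℳ d := by
  refine ⟨sreg_of_VR h, fun e he m hm hg => ?_, ?_⟩
  · exact (Van.V_zero_iff (X := StarInj.toMod (GrSyz.stdGr k (Fin (r + 1))) ℳ)).1 (h 0 e (by simpa using he)) m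
      ((StarInj.mem_toMod (GrSyz.stdGr k (Fin (r + 1))) ℳ).2 hm) hg
  intro σ
  obtain ⟨q, deg, aug, hdeg, hx, hgen⟩ := exists_cover (r := r) ℳ (d : ℤ)
  have hsurj : Function.Surjective (cov (k := k) (r := r) aug) := by
    haveI : Module.Finite (S r k) (StarInj.toMod (GrSyz.stdGr k (Fin (r + 1))) ℳ).carrier :=
      inferInstanceAs (Module.Finite (S r k) M)
    refine LinearMap.range_eq_top.1 (top_le_iff.1 ?_)
    refine (Reg.smul_top_eq (StarInj.toMod (GrSyz.stdGr k (Fin (r + 1))) ℳ) h).ge.trans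
      (Submodule.span_le.2 (Set.iUnion₂_subset fun g hg y hy => ?_))
    exact hgen g hg y ((StarInj.mem_toMod (GrSyz.stdGr k (Fin (r + 1))) ℳ).1 hy)
  letI := kerDec (k := k) (r := r) hx
  haveI : Module.Finite (S r k) (LinearMap.ker (cov (k := k) (r := r) aug)) :=
    Module.Finite.iff_fg.mpr (IsNoetherian.noetherian _)
  have hKVR : Reg.VR (StarInj.toMod (GrSyz.stdGr k (Fin (r + 1)))
      (kerK (k := k) (r := r) (deg := deg) (aug := aug))) ((d : ℤ) + 1) :=
    Reg.VR_kernel hdeg (ses_cover hx hsurj) h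
  obtain ⟨v, hv⟩ := exists_cov_globalOf hx (sat_of_surjective hx hsurj) hdeg
    (sreg_subsingleton _ (sreg_of_VR hKVR) le_rfl (by simp)) σ
  exact ⟨_, hv⟩

end Groth.Agent.Lib.GrSheafReg.Main
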