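import Groth.Agent.Lib.GrSheafReg.Global
import Groth.Agent.Lib.ProjTilde.Tensor
import Groth.Agent.Lib.ProjTilde.FiniteType
import Groth.Agent.Lib.Graded.Basic

/-!
# The part of non-negative degree of a graded module over a polynomial ring, and its sheaf
-/

universe u

open CategoryTheory CategoryTheory.Limits AlgebraicGeometry TopologicalSpace Opposite MvPolynomial DirectSum

noncomputable section

namespace Groth.Agent.Lib.GrSheafReg.Pos

open Groth.Agent.Lib Groth.Agent.Lib.ProjCoh.Coherent Groth.Agent.Lib.ProjCoh.Sections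
  Groth.Agent.Lib.ProjTildeExact Groth.Agent.Lib.Graded

variable {k : Type u} [Field k] {r : ℕ}

theorem proj_neg_eq_zero {g : ℤ} (hg : g < 0) (p : S r k) :
    Basic.proj (GrSyz.stdGr k (Fin (r + 1))) g p = 0 :=
  PolyReg.eq_zero_of_mem_std_neg hg (Basic.proj_mem _ g p)

variable {M : Type u} [AddCommGroup M] [Module k M] [Module (S r k) M] (ℳ : ℤ → Submodule k M)
  [DirectSum.Decomposition ℳ] [SetLike.GradedSMul (GrSyz.stdGr k (Fin (r + 1))) ℳ]

/-- The elements of non-negative degree. -/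
def pos : Submodule (S r k) M where
  carrier := {m | ∀ g : ℤ, g < 0 → Basic.proj ℳ g m = 0}
  add_mem' ha hb g hg := by rw [map_add, ha g hg, hb g hg, add_zero]
  zero_mem' g _ := map_zero _
  smul_mem' c m hm g hg := by
    induction c using Basic.induction_hom (GrSyz.stdGr k (Fin (r + 1))) with
    | zero => rw [zero_smul, map_zero]
    | hom i c hc =>
      rw [Basic.proj_smul_of_mem (GrSyz.stdGr k (Fin (r + 1))) ℳ hc]
      rcases lt_or_ge i 0 with hi | hi
      · rw [PolyReg.eq_zero_of_mem_std_neg hi hc, zero_smul]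
      · rw [hm _ (by omega), smul_zero]
    | add a b ha hb => rw [add_smul, map_add, ha, hb, add_zero]

theorem mem_pos_of_mem {g : ℤ} (hg : 0 ≤ g) {m : M} (h : m ∈ ℳ g) : m ∈ pos (r := r) ℳ := fun g' hg' =>
  Basic.proj_of_mem_ne ℳ h (by omega)

variable [IsScalarTower k (S r k) M]

/-- The pieces of non-negative degree. -/
def posGr (i : ℕ) : Submodule k (pos (r := r) ℳ) :=
  (ℳ (i : ℤ)).comap ((pos (r := r) ℳ).subtype.restrictScalars k)

/-- The projections. -/
def posProj (i : ℕ) : pos (r := r) ℳ →+ pos (r := r) ℳ :=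
  ((Basic.proj ℳ (i : ℤ)).comp (pos (r := r) ℳ).subtype.toAddMonoidHom).codRestrict (pos (r := r) ℳ)
    fun x => mem_pos_of_mem ℳ (by positivity) (Basic.proj_mem ℳ _ _)

instance posDec : DirectSum.Decomposition (posGr (r := r) ℳ) :=
  Basic.decompositionOfProj _ (posProj ℳ)
    (fun _ _ hx => Subtype.ext (Basic.proj_of_mem ℳ hx))
    (fun g h hne x hx => Subtype.ext (Basic.proj_of_mem_ne ℳ hx (by exact_mod_cast hne)))
    (fun x => by
      classical
      have hx : x = ∑ g ∈ Basic.supp ℳ (x : M), posProj ℳ g.toNat x := by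
        refine Subtype.ext ?_
        rw [Submodule.coe_sum]
        refine Eq.trans (Basic.sum_proj ℳ _).symm (Finset.sum_congr rfl fun g hg => ?_)
        have h0 : 0 ≤ g := not_lt.1 fun h => (Basic.mem_supp ℳ).1 hg (x.2 g h)
        change _ = Basic.proj ℳ ((g.toNat : ℕ) : ℤ) (x : M)
        rw [Int.toNat_of_nonneg h0]
      rw [hx]
      exact sum_mem fun g _ => ⟨DirectSum.of _ g.toNat ⟨posProj ℳ g.toNat x, Basic.proj_mem ℳ _ _⟩,
        by rw [DirectSum.coeAddMonoidHom_of]⟩)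

variable [SetLike.GradedSMul (CohB1.polyGrading r k) (fun n : ℕ => ℳ (n : ℤ))]

instance posGSMul : SetLike.GradedSMul (CohB1.polyGrading r k) (posGr (r := r) ℳ) where
  smul_mem {_ _ _ _} hp hv := SetLike.GradedSMul.smul_mem (B := fun n : ℕ => ℳ (n : ℤ)) hp hv

theorem shift_incl (t : ℤ) :
    Shift (posGr (r := r) ℳ) (fun n : ℕ => ℳ (n : ℤ)) (pos (r := r) ℳ).subtype 0 t :=
  fun i _ hv _ _ => Or.inl ⟨i, by simp, hv⟩

/-- The comparison map. -/
def incl (t : ℤ) : GrTilde.tilde (CohB1.polyGrading r k) (posGr (r := r) ℳ) t ⟶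
    GrTilde.tilde (CohB1.polyGrading r k) (fun n : ℕ => ℳ (n : ℤ)) t :=
  tildeMap (pos (r := r) ℳ).subtype (shift_incl ℳ t) (add_zero t).symm

instance mono_incl (t : ℤ) : Mono (incl (r := r) ℳ t) :=
  mono_tildeMap _ (shift_incl ℳ t) _ Subtype.val_injective

instance epi_incl (t : ℤ) : Epi (incl (r := r) ℳ t) := by
  refine (Modules.Stalk.epi_iff_stalk_surjective _).2 fun p z => ?_
  obtain ⟨U, hpU, σ, rfl⟩ := TopCat.Presheaf.exists_germ_eq
    (GrTilde.tilde (CohB1.polyGrading r k) (fun n : ℕ => ℳ (n : ℤ)) t).presheaf z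
  obtain ⟨V, hVU, hpV, τ, hτ⟩ := exists_local_lift (pos (r := r) ℳ).subtype (shift_incl ℳ t)
    (add_zero t).symm σ p hpU fun i j a u ha _ _ _ hij => by
      refine ⟨0, 1, i, ⟨a, mem_pos_of_mem ℳ (by positivity) ha⟩, SetLike.GradedOne.one_mem,
        fun h => p.isPrime.ne_top ((Ideal.eq_top_iff_one _).mpr h), ha, (one_smul _ a).symm, ?_⟩
      exact hij.imp (fun h => by push_cast; omega) fun h => Subtype.ext h
  refine ⟨(GrTilde.tilde (CohB1.polyGrading r k) (posGr (r := r) ℳ) t).presheaf.germ V p hpV τ, ?_⟩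
  refine (TopCat.Presheaf.stalkFunctor_map_germ_apply V p hpV (incl (r := r) ℳ t).mapPresheaf τ).trans ?_
  exact (congrArg ((GrTilde.tilde (CohB1.polyGrading r k) (fun n : ℕ => ℳ (n : ℤ)) t).presheaf.germ V p hpV)
    hτ).trans (TopCat.Presheaf.germ_res_apply _ _ _ _ _)

/-- `M_{≥ 0}(t)~ ≅ M(t)~`. -/
def iso (t : ℤ) : GrTilde.tilde (CohB1.polyGrading r k) (posGr (r := r) ℳ) t ≅
    GrTilde.tilde (CohB1.polyGrading r k) (fun n : ℕ => ℳ (n : ℤ)) t :=
  haveI : IsIso (incl (r := r) ℳ t) := isIso_of_mono_of_epi _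
  asIso (incl (r := r) ℳ t)

/-- `M(0)~ ⊗ O(t) ≅ M(t)~`, for the pieces of non-negative degree. -/
def qIso (t : ℤ) :
    CohB1.tensorMod (X := CohB1.ProjSpace r k)
        (GrTilde.tilde (CohB1.polyGrading r k) (fun n : ℕ => ℳ (n : ℤ)) 0) (tw r k t) ≅
      GrTilde.tilde (CohB1.polyGrading r k) (fun n : ℕ => ℳ (n : ℤ)) t :=
  let e : GrTilde.tilde (CohB1.polyGrading r k) (posGr (r := r) ℳ) 0 ≅
      GrTilde.tilde (CohB1.polyGrading r k) (fun n : ℕ => ℳ (n : ℤ)) 0 := iso ℳ 0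
  TensorMod.Basic.tensorIso (X := CohB1.ProjSpace r k) e.symm (Iso.refl _) ≪≫
    (ProjTilde.Tensor.tensorTwistIso hcov 0 t ≪≫ eqToIso (by rw [zero_add])) ≪≫ iso ℳ t

theorem isQCoh (t : ℤ) :
    Coh.IsQCoh (GrTilde.tilde (CohB1.polyGrading r k) (fun n : ℕ => ℳ (n : ℤ)) t) :=
  (SheafOfModules.isQuasicoherent (Proj (CohB1.polyGrading r k)).ringCatSheaf).prop_of_iso (iso ℳ t)
    (ProjTilde.QCoh.tilde_isQCoh t)

end Groth.Agent.Lib.GrSheafReg.Pos
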