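import Groth.Agent.Lib.GrSheafReg.Cover
import Groth.Agent.Lib.ProjKoszul.Reg2
import Groth.Agent.Lib.Modules.SupportOps

/-!
# Covers of modules with regular sheaf, full global sections and no torsion in high degree
-/

universe u

open CategoryTheory CategoryTheory.Limits AlgebraicGeometry TopologicalSpace Opposite MvPolynomial DirectSum

noncomputable section

namespace Groth.Agent.Lib.GrSheafReg.Step

open Groth.Agent.Lib Groth.Agent.Lib.ProjCoh.Coherent Groth.Agent.Lib.ProjCoh.Sections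
  Groth.Agent.Lib.ProjTildeExact Groth.Agent.Lib.Graded Groth.Agent.Lib.GrSheafReg.Cover

variable {k : Type u} [Field k] {r : ℕ}
variable {M : Type u} [AddCommGroup M] [Module k M] [Module (S r k) M] [IsScalarTower k (S r k) M]
  (ℳ : ℤ → Submodule k M)
  [DirectSum.Decomposition ℳ] [SetLike.GradedSMul (GrSyz.stdGr k (Fin (r + 1))) ℳ]
  [SetLike.GradedSMul (CohB1.polyGrading r k) (fun n : ℕ => ℳ (n : ℤ))]

/-- Regularity of the sheaf, in terms of the sheaves `M(t)~`. -/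
def SReg (d : ℤ) : Prop :=
  ∀ i : ℕ, 1 ≤ i → Subsingleton (Coh.HH (CohB1.ProjSpace r k) (Q (r := r) ℳ (d - i)) i)

/-- The conclusions needed at level `d`. -/
structure Inv (d : ℕ) : Prop where
  sreg : SReg (r := r) ℳ (d : ℤ)
  tors : ∀ e : ℤ, (d : ℤ) < e → ∀ m ∈ ℳ e,
    m ∈ GrLC.gam (GrSyz.irrel (GrSyz.stdGr k (Fin (r + 1)))).toIdeal M → m = 0
  surj : ∀ σ : GrTilde.sect (CohB1.polyGrading r k) (fun n : ℕ => ℳ (n : ℤ)) (d : ℤ)
      (op (⊤ : Opens (ProjectiveSpectrum.top (CohB1.polyGrading r k)))),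
    ∃ m : ↥(ℳ (d : ℤ)), GrTilde.globalOf (CohB1.polyGrading r k) (fun n : ℕ => ℳ (n : ℤ)) (i := d) m = σ

/-- The typed comparison `M(0)~(t) ≅ M(t)~`. -/
def qi (t : ℤ) : CohB1.tensorMod (X := CohB1.ProjSpace r k) (Q (r := r) ℳ 0) (tw r k t) ≅ Q (r := r) ℳ t :=
  Pos.qIso ℳ t

theorem reg_of_sreg {d : ℤ} (h : SReg (r := r) ℳ d) : ProjKoszul.Regularity.Reg (Q (r := r) ℳ 0) d :=
  fun i hi => ProjKoszul.Chase.subsingleton_of_iso k (qi ℳ (d - i)).symm (h i hi)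

theorem sreg_of_reg {d : ℤ} (h : ProjKoszul.Regularity.Reg (Q (r := r) ℳ 0) d) : SReg (r := r) ℳ d :=
  fun i hi => ProjKoszul.Chase.subsingleton_of_iso (X := CohB1.ProjSpace r k) k (qi ℳ (d - i)) (h i hi)

theorem sreg_subsingleton {d e : ℤ} {i : ℕ} (h : SReg (r := r) ℳ d) (hi : 1 ≤ i) (he : d - i ≤ e) :
    Subsingleton (Coh.HH (CohB1.ProjSpace r k) (Q (r := r) ℳ e) i) :=
  ProjKoszul.Chase.subsingleton_of_iso k (qi ℳ e)
    (ProjKoszul.Regularity.subsingleton_of_le (reg_of_sreg ℳ h) hi he)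

theorem isCoh [Module.Finite (S r k) M] : Coh.IsCoh (Q (r := r) ℳ 0) := by
  refine ⟨Pos.isQCoh ℳ 0, ?_⟩
  exact @Modules.SupportOps.isFT_of_iso _ _ _ (Pos.iso ℳ 0)
    (ProjTilde.FiniteType.isFT (IsNoetherian.noetherian _) ⟨0, IsNoetherian.noetherian _⟩)

variable {ℳ} {q : ℕ} {deg : Fin q → ℤ} {aug : Fin q → M} (hx : ∀ b, aug b ∈ ℳ (deg b))

theorem gMap_globalOf {e : ℕ} (v : PolyReg.freeGr k r deg e) :
    (gMap (k := k) (r := r) hx (e : ℤ)).app ⊤
        (GrTilde.globalOf (CohB1.polyGrading r k) (PolyReg.freeGr k r deg) v) =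
      GrTilde.globalOf (CohB1.polyGrading r k) (fun n : ℕ => ℳ (n : ℤ)) (i := e)
        ⟨cov (k := k) (r := r) aug v, cov_mem hx v.2⟩ :=
  Subtype.ext (funext fun x => Subtype.ext (locMap_mk (cov (k := k) (r := r) aug) x.1 _ _))

theorem gMap_surjective (hsat : Sat (k := k) (r := r) ℳ aug) {t : ℤ}
    (h : Subsingleton (Coh.HH (CohB1.ProjSpace r k) (Q (kerK (k := k) (r := r) (deg := deg) (aug := aug)) t) 1)) :
    Function.Surjective ((gMap (k := k) (r := r) hx t).app ⊤) := by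
  refine ProjKoszul.Reg2.app_surjective_of_mapK (R := k) (gMap (k := k) (r := r) hx t) fun y => ?_
  have hS : (ses (k := k) (r := r) hx t).ShortExact := shortExact_ses hx hsat t
  have h1 : Subsingleton (Coh.HH (CohB1.ProjSpace r k) (ses (k := k) (r := r) hx t).X₁ 1) := h
  exact (Curves.LES.exactK₃ k hS 0 1 rfl y).1 (Subsingleton.elim _ _)

set_option maxHeartbeats 800000 in
theorem exists_cov_globalOf (hsat : Sat (k := k) (r := r) ℳ aug) {e : ℕ} (hdeg : ∀ b, deg b ≤ e)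
    (h : Subsingleton (Coh.HH (CohB1.ProjSpace r k) (Q (kerK (k := k) (r := r) (deg := deg) (aug := aug)) e) 1))
    (σ : GrTilde.sect (CohB1.polyGrading r k) (fun n : ℕ => ℳ (n : ℤ)) (e : ℤ)
      (op (⊤ : Opens (ProjectiveSpectrum.top (CohB1.polyGrading r k))))) :
    ∃ v : PolyReg.freeGr k r deg e,
      GrTilde.globalOf (CohB1.polyGrading r k) (fun n : ℕ => ℳ (n : ℤ)) (i := e)
        ⟨cov (k := k) (r := r) aug v, cov_mem hx v.2⟩ = σ := by
  obtain ⟨τ, hτ⟩ := gMap_surjective hx hsat h σ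
  obtain ⟨v, hv⟩ := Global.exists_globalOf_free hdeg τ
  exact ⟨v, (gMap_globalOf hx v).symm.trans ((congrArg _ hv).trans hτ)⟩

theorem mem_range_of_not_mem {p : ProjectiveSpectrum (CohB1.polyGrading r k)} (hx : ∀ b, aug b ∈ ℳ (deg b))
    {i : ℕ} {a : M} (ha : a ∈ ℳ (i : ℤ)) {c : S r k} (hc : c ∉ p.asHomogeneousIdeal)
    (h : c • a ∈ LinearMap.range (cov (k := k) (r := r) aug)) :
    ∃ (e : ℕ) (v : S r k), v ∈ CohB1.polyGrading r k e ∧ v ∉ p.asHomogeneousIdeal ∧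
      v • a ∈ LinearMap.range (cov (k := k) (r := r) aug) := by
  classical
  obtain ⟨j, hj⟩ : ∃ j, (decompose (CohB1.polyGrading r k) c j : S r k) ∉ p.asHomogeneousIdeal := by
    by_contra h'
    push Not at h'
    apply hc
    rw [← sum_support_decompose (CohB1.polyGrading r k) c]
    exact Ideal.sum_mem _ fun i _ => h' i
  letI := freeDec (k := k) (r := r) deg
  have hR : (LinearMap.range (cov (k := k) (r := r) aug)).IsHomogeneous ℳ :=
    Basic.isHomogeneous_range (ℳ := freeK (k := k) (r := r) deg) (f := cov (k := k) (r := r) aug)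
      fun g v hv => cov_grHom hx g v ((mem_freeMod_iff deg).1 hv)
  refine ⟨j, _, SetLike.coe_mem _, hj, ?_⟩
  have h1 := Basic.proj_mem_of_isHomogeneous hR ((j : ℤ) + i) h
  rwa [Basic.proj_smul_mem (GrSyz.stdGr k (Fin (r + 1))) ℳ ha, add_sub_cancel_right, ← coe_decompose_eq] at h1

variable [Module.Finite (S r k) M]

include hx in
theorem sat_of_inv {d : ℕ} (hI : Inv (r := r) ℳ d)
    (hgen : ∀ g : ℤ, g ≤ d → ∀ a ∈ ℳ g, a ∈ LinearMap.range (cov (k := k) (r := r) aug)) :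
    Sat (k := k) (r := r) ℳ aug := by
  have hepi : Epi (gMap (k := k) (r := r) hx (d : ℤ)) := by
    obtain ⟨ι, p, hp⟩ := ProjKoszul.Regularity.isGloballyGenerated_of_le (isCoh (r := r) ℳ)
      (reg_of_sreg ℳ hI.sreg) (le_refl (d : ℤ))
    let e : CohB1.tensorMod (X := CohB1.ProjSpace r k) (Q (r := r) ℳ 0) (tw r k (d : ℤ)) ≅ Q (r := r) ℳ (d : ℤ) :=
      Pos.qIso ℳ (d : ℤ)
    haveI : Epi (p ≫ e.hom) := epi_comp' hp (IsIso.epi_of_iso e.hom)
    refine Preadditive.epi_of_cokernel_zero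
      (ProjKoszul.Regularity.isZero_of_epi_free (p ≫ e.hom) _ fun t => ?_)
    obtain ⟨m, hm⟩ := hI.surj t
    obtain ⟨v, hv, hvm⟩ := exists_preimage hx (i := d) m.2 (hgen _ le_rfl _ m.2)
    have ht : (gMap (k := k) (r := r) hx (d : ℤ)).app ⊤
        (GrTilde.globalOf (CohB1.polyGrading r k) (PolyReg.freeGr k r deg) ⟨v, hv⟩) = t :=
      (gMap_globalOf hx ⟨v, hv⟩).trans ((congrArg _ (Subtype.ext hvm)).trans hm)
    rw [← ht]
    change ((gMap (k := k) (r := r) hx (d : ℤ)) ≫ cokernel.π _).app ⊤ _ = 0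
    rw [cokernel.condition]
    rfl
  intro p i a ha
  by_cases hid : i ≤ d
  · exact ⟨0, 1, SetLike.GradedOne.one_mem, fun h' => p.isPrime.ne_top ((Ideal.eq_top_iff_one _).mpr h'),
      (one_smul (S r k) a).symm ▸ hgen _ (by exact_mod_cast hid) a ha⟩
  obtain ⟨f, hf, hfp⟩ := hcov p
  have hfN : f ^ (i - d) ∈ CohB1.polyGrading r k (i - d) := by
    simpa using SetLike.pow_mem_graded (i - d) hf
  let V : Opens (ProjectiveSpectrum.top (CohB1.polyGrading r k)) :=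
    ProjectiveSpectrum.basicOpen (CohB1.polyGrading r k) f
  have hnin : ∀ y : V, f ^ (i - d) ∉ y.1.asHomogeneousIdeal := fun y h =>
    y.2 (y.1.isPrime.mem_of_pow_mem _ h)
  have hij : (i : ℤ) = ((i - d : ℕ) : ℤ) + d := by omega
  let σ : GrTilde.sect (CohB1.polyGrading r k) (fun n : ℕ => ℳ (n : ℤ)) (d : ℤ) (op V) :=
    ⟨fun y => ⟨_, frac_mem' (ℳ := fun n : ℕ => ℳ (n : ℤ)) (a := a) ha hfN (hnin y) (Or.inl hij)⟩, fun y =>
      ⟨V, y.2, 𝟙 _, i, i - d, ⟨a, ha⟩, ⟨_, hfN⟩, hnin, Or.inl hij, fun _ => rfl⟩⟩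
  obtain ⟨z, hz⟩ := (Modules.Stalk.epi_iff_stalk_surjective _).1 hepi p
    ((Q (r := r) ℳ (d : ℤ)).presheaf.germ V p hfp σ)
  obtain ⟨U, hpU, τ, rfl⟩ := TopCat.Presheaf.exists_germ_eq (FT (k := k) (r := r) deg (d : ℤ)).presheaf z
  have hz' : (Q (r := r) ℳ (d : ℤ)).presheaf.germ U p hpU ((gMap (k := k) (r := r) hx (d : ℤ)).app U τ) =
      (Q (r := r) ℳ (d : ℤ)).presheaf.germ V p hfp σ :=
    (TopCat.Presheaf.stalkFunctor_map_germ_apply U p hpU (gMap (k := k) (r := r) hx (d : ℤ)).mapPresheaf τ).symm.trans hz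
  obtain ⟨W, hpW, iU, iV, heq⟩ := TopCat.Presheaf.germ_eq (Q (r := r) ℳ (d : ℤ)).presheaf p hpU hfp _ _ hz'
  have hval := congrArg
    (fun ρ : GrTilde.sect (CohB1.polyGrading r k) (fun n : ℕ => ℳ (n : ℤ)) (d : ℤ) (op W) => (ρ.1 ⟨p, hpW⟩).1) heq
  let zz : GrTilde.LocMod (CohB1.polyGrading r k) (M := Fin q → S r k) p :=
    ((τ : GrTilde.sect (CohB1.polyGrading r k) (PolyReg.freeGr k r deg) (d : ℤ) (op U)).1 ⟨p, hpU⟩).1
  have hv : locMap (cov (k := k) (r := r) aug) p zz =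
      LocalizedModule.mk a ⟨f ^ (i - d), hnin ⟨p, hfp⟩⟩ := hval
  clear_value zz
  induction zz using LocalizedModule.induction_on with
  | h w s =>
    rw [locMap_mk, LocalizedModule.mk_eq] at hv
    obtain ⟨u, hu⟩ := hv
    simp only [Submonoid.smul_def] at hu
    refine mem_range_of_not_mem hx ha (c := (u : S r k) * (s : S r k))
      (fun h => (p.isPrime.mem_or_mem h).elim u.2 s.2)
      ⟨((u : S r k) * f ^ (i - d)) • w, ?_⟩
    rw [map_smul, mul_smul, mul_smul]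
    exact hu

end Groth.Agent.Lib.GrSheafReg.Step
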